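import Mathlib
import Groth.Prelude.Def_Frob
import Groth.Agent.Variety2.Frobenius

/-!
# Perfect schemes and perfections: structure theorem

If `π : XP ⟶ X` is a perfection, then over every affine open `U` of `X` the preimage is affine,
every section upstairs has a `p`-power coming from `U`, and every section of `U` dying upstairs is
nilpotent.  Consequently `π` is integral and a universal homeomorphism.
-/

set_option autoImplicit false

universe u

open CategoryTheory CategoryTheory.Limits AlgebraicGeometry FrobSch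

namespace Groth.Misc7.Perfection

variable {p : ℕ} [Fact p.Prime]

section Perfect

variable {X U : Scheme.{u}} [IsCharP X p] [IsCharP U p]

lemma inv_frob_apply [FrobSch.IsPerfect X p] (y : X) : (inv (frob X p)) y = y := by
  conv_lhs => rw [← frob_apply X p ((inv (frob X p)) y)]
  rw [← Scheme.Hom.comp_apply, IsIso.inv_hom_id]
  rfl

theorem isPerfect_of_openImmersion (j : U ⟶ X) [IsOpenImmersion j] [FrobSch.IsPerfect X p] :
    FrobSch.IsPerfect U p := by
  let g : U ⟶ U := IsOpenImmersion.lift j (j ≫ inv (frob X p)) (by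
    rintro _ ⟨y, rfl⟩
    exact ⟨y, by rw [Scheme.Hom.comp_apply, inv_frob_apply]⟩)
  have hg : g ≫ j = j ≫ inv (frob X p) := IsOpenImmersion.lift_fac _ _ _
  refine ⟨g, ?_, ?_⟩ <;> rw [← cancel_mono j]
  · rw [Category.assoc, hg, frob_comp_assoc, IsIso.hom_inv_id, Category.comp_id, Category.id_comp]
  · rw [Category.assoc, frob_comp, reassoc_of% hg, IsIso.inv_hom_id, Category.comp_id,
      Category.id_comp]

instance isPerfect_opens [FrobSch.IsPerfect X p] (V : X.Opens) [IsCharP (V : Scheme.{u}) p] :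
    FrobSch.IsPerfect (V : Scheme.{u}) p :=
  isPerfect_of_openImmersion V.ι

theorem bijective_pow [FrobSch.IsPerfect X p] (V : X.Opens) :
    Function.Bijective fun s : Γ(X, V) => s ^ p :=
  ConcreteCategory.bijective_of_isIso ((frob X p).app V)

theorem bijective_pow_pow [FrobSch.IsPerfect X p] (V : X.Opens) (n : ℕ) :
    Function.Bijective fun s : Γ(X, V) => s ^ p ^ n := by
  induction n with
  | zero => simp only [pow_zero, pow_one]; exact Function.bijective_id
  | succ n ih =>
    have : (fun s : Γ(X, V) => s ^ p ^ (n + 1)) = (fun s => s ^ p) ∘ fun s => s ^ p ^ n := by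
      funext s; simp [← pow_mul, pow_succ]
    rw [this]
    exact (bijective_pow V).comp ih

theorem isPerfect_of_isAffine [IsAffine X] (h : Function.Bijective fun s : Γ(X, ⊤) => s ^ p) :
    FrobSch.IsPerfect X p := by
  have h1 : IsIso (frob X p).appTop := (ConcreteCategory.isIso_iff_bijective _).2 h
  have h2 : frob X p = X.isoSpec.hom ≫ Spec.map (frob X p).appTop ≫ X.isoSpec.inv := by
    rw [Scheme.isoSpec_hom_naturality_assoc, Iso.hom_inv_id, Category.comp_id]
  rw [FrobSch.IsPerfect, h2]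
  infer_instance

theorem isPerfect_of_bijective
    (h : ∀ V : X.Opens, IsAffineOpen V → Function.Bijective fun s : Γ(X, V) => s ^ p) :
    FrobSch.IsPerfect X p := by
  rw [FrobSch.IsPerfect, ← MorphismProperty.isomorphisms.iff,
    IsZariskiLocalAtTarget.iff_of_iSup_eq_top (P := MorphismProperty.isomorphisms Scheme)
      (fun W : X.affineOpens => (W : X.Opens)) (iSup_affineOpens_eq_top X)]
  rintro ⟨W, hW⟩
  rw [MorphismProperty.isomorphisms.iff, isIso_morphismRestrict_iff_isIso_app _ hW,
    ConcreteCategory.isIso_iff_bijective]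
  exact h W hW

end Perfect

section Unique

variable {X XP XP' : Scheme.{u}} [IsCharP XP p] [IsCharP XP' p]

theorem exists_iso {π : XP ⟶ X} {π' : XP' ⟶ X} (h : IsPerfection π p) (h' : IsPerfection π' p) :
    ∃ e : XP ≅ XP', e.hom ≫ π' = π := by
  have := h.1
  have := h'.1
  obtain ⟨f, hf : f ≫ π' = π⟩ := (h'.2 XP inferInstance).2 π
  obtain ⟨g, hg : g ≫ π = π'⟩ := (h.2 XP' inferInstance).2 π'
  refine ⟨⟨f, g, ?_, ?_⟩, hf⟩
  · exact (h.2 XP inferInstance).1 (show (f ≫ g) ≫ π = 𝟙 XP ≫ π by rw [Category.assoc, hg, hf, Category.id_comp])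
  · exact (h'.2 XP' inferInstance).1 (show (g ≫ f) ≫ π' = 𝟙 XP' ≫ π' by
      rw [Category.assoc, hf, hg, Category.id_comp])

theorem restrict {π : XP ⟶ X} (h : IsPerfection π p) (U : X.Opens)
    [IsCharP (↑(π ⁻¹ᵁ U) : Scheme.{u}) p] : IsPerfection (π ∣_ U) p := by
  have := h.1
  refine ⟨inferInstance, fun Y _ _ => ⟨fun a b hab => ?_, fun g => ?_⟩⟩
  · rw [← cancel_mono (π ⁻¹ᵁ U).ι]
    apply (h.2 Y inferInstance).1
    simp only [Category.assoc, ← morphismRestrict_ι]
    rw [← Category.assoc, ← Category.assoc]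
    exact congrArg (· ≫ U.ι) hab
  · obtain ⟨k, hk : k ≫ π = g ≫ U.ι⟩ := (h.2 Y inferInstance).2 (g ≫ U.ι)
    have hr : Set.range k ⊆ Set.range (π ⁻¹ᵁ U).ι := by
      rintro _ ⟨y, rfl⟩
      rw [Scheme.Opens.range_ι]
      change π (k y) ∈ U
      rw [← Scheme.Hom.comp_apply, hk, Scheme.Hom.comp_apply]
      exact (g y).2
    refine ⟨IsOpenImmersion.lift _ k hr, ?_⟩
    change IsOpenImmersion.lift _ k hr ≫ π ∣_ U = g
    rw [← cancel_mono U.ι, Category.assoc, morphismRestrict_ι, IsOpenImmersion.lift_fac_assoc, hk]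

end Unique

section Model

variable (R : CommRingCat.{u}) [CharP R p]

/-- The perfection of an affine scheme. -/
noncomputable def model : Spec (CommRingCat.of (PerfectClosure R p)) ⟶ Spec R :=
  Spec.map (CommRingCat.ofHom (PerfectClosure.of R p))

theorem isPerfect_model : FrobSch.IsPerfect (Spec (CommRingCat.of (PerfectClosure R p))) p := by
  refine isPerfect_of_isAffine ?_
  let e := (Scheme.ΓSpecIso (CommRingCat.of (PerfectClosure R p))).commRingCatIsoToRingEquiv
  have h : Function.Bijective (fun s : PerfectClosure R p => s ^ p) :=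
    PerfectRing.bijective_frobenius (R := PerfectClosure R p)
  have : (fun s : Γ(Spec (CommRingCat.of (PerfectClosure R p)), ⊤) => s ^ p) =
      e.symm ∘ (fun s : PerfectClosure R p => s ^ p) ∘ e := by
    funext s; simp
  rw [this]
  exact e.symm.bijective.comp (h.comp e.bijective)

theorem existsUnique_lift (L : Type u) [CommRing L] (hL : (p : L) = 0)
    (hbij : Function.Bijective fun x : L => x ^ p) (φ : R →+* L) :
    ∃! ψ : PerfectClosure R p →+* L, ψ.comp (PerfectClosure.of R p) = φ := by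
  rcases subsingleton_or_nontrivial L with hs | hn
  · exact ⟨{ toFun := fun _ => 1, map_one' := rfl, map_mul' := fun _ _ => (one_mul 1).symm,
             map_zero' := Subsingleton.elim _ _, map_add' := fun _ _ => Subsingleton.elim _ _ },
      RingHom.ext fun _ => Subsingleton.elim _ _, fun _ _ => RingHom.ext fun _ => Subsingleton.elim _ _⟩
  · have : CharP L p := (CharP.charP_iff_prime_eq_zero Fact.out).2 hL
    have : PerfectRing L p := ⟨by simpa [frobenius_def] using hbij⟩
    refine ⟨PerfectClosure.lift R p L φ, (PerfectClosure.lift R p L).left_inv φ, fun ψ hψ => ?_⟩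
    rw [← hψ]
    exact ((PerfectClosure.lift R p L).right_inv ψ).symm

theorem isPerfection_model : IsPerfection (model (p := p) R) p := by
  refine ⟨isPerfect_model R, fun Y _ _ => ?_⟩
  have key := existsUnique_lift (p := p) R Γ(Y, ⊤) IsCharP.natCast_eq_zero (bijective_pow (p := p) ⊤)
  have hv : ∀ (A : CommRingCat.{u}) (g : Y ⟶ Spec A), ∃ a : A ⟶ Γ(Y, ⊤), g = Y.toSpecΓ ≫ Spec.map a :=
    fun A g => ⟨(Scheme.ΓSpecIso A).inv ≫ g.appTop, by
      rw [Spec.map_comp, ← Scheme.toSpecΓ_naturality_assoc, ← Category.assoc]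
      simp⟩
  have hinj : ∀ (A : CommRingCat.{u}) (a b : A ⟶ Γ(Y, ⊤)),
      Y.toSpecΓ ≫ Spec.map a = Y.toSpecΓ ≫ Spec.map b → a = b := fun A a b hab => by
    have := congrArg Scheme.Hom.appTop hab
    simpa using this
  refine ⟨fun g h hgh => ?_, fun g => ?_⟩
  · obtain ⟨a, rfl⟩ := hv _ g
    obtain ⟨b, rfl⟩ := hv _ h
    simp only [model, Category.assoc, ← Spec.map_comp] at hgh
    have hab := congrArg CommRingCat.Hom.hom (hinj _ _ _ hgh)
    rw [CommRingCat.hom_comp, CommRingCat.hom_comp] at hab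
    obtain ⟨ψ, -, huniq⟩ := key (a.hom.comp (PerfectClosure.of R p))
    have := (huniq a.hom rfl).trans (huniq b.hom hab.symm).symm
    rw [CommRingCat.hom_ext this]
  · obtain ⟨a, rfl⟩ := hv _ g
    obtain ⟨ψ, hψ, -⟩ := key a.hom
    refine ⟨Y.toSpecΓ ≫ Spec.map (CommRingCat.ofHom ψ), ?_⟩
    simp only [model, Category.assoc, ← Spec.map_comp]
    congr 2
    exact CommRingCat.hom_ext hψ

end Model

section Structure

variable {X XP : Scheme.{u}} [IsCharP X p] [IsCharP XP p] {π : XP ⟶ X}

theorem structure_affine [IsAffine X] (h : IsPerfection π p) :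
    IsAffine XP ∧ (∀ s : Γ(XP, ⊤), ∃ (n : ℕ) (a : Γ(X, ⊤)), π.appTop a = s ^ p ^ n) ∧
      (∀ a : Γ(X, ⊤), π.appTop a = 0 → ∃ n : ℕ, a ^ p ^ n = 0) := by
  rcases subsingleton_or_nontrivial Γ(X, ⊤) with hs | hn
  · have hX : IsEmpty X := by
      have : IsEmpty (Spec Γ(X, ⊤)) := inferInstanceAs (IsEmpty (PrimeSpectrum Γ(X, ⊤)))
      exact Function.isEmpty X.isoSpec.hom
    have : IsEmpty XP := Function.isEmpty π
    have : IsAffine XP := inferInstance
    have : Subsingleton Γ(XP, ⊤) := by
      have := π.appTop.hom.map_one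
      rw [Subsingleton.elim (1 : Γ(X, ⊤)) 0, map_zero] at this
      exact subsingleton_of_zero_eq_one this
    exact ⟨inferInstance, fun s => ⟨0, 0, Subsingleton.elim _ _⟩, fun a _ => ⟨0, Subsingleton.elim _ _⟩⟩
  let R : CommRingCat.{u} := Γ(X, ⊤)
  have : CharP R p := (CharP.charP_iff_prime_eq_zero Fact.out).2 IsCharP.natCast_eq_zero
  have hm := isPerfection_model (p := p) R
  have hπ' : IsPerfection (π ≫ X.isoSpec.hom) p := by
    refine ⟨h.1, fun Y _ _ => ?_⟩
    have : (fun g : Y ⟶ XP => g ≫ π ≫ X.isoSpec.hom) =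
        (fun k : Y ⟶ X => k ≫ X.isoSpec.hom) ∘ fun g : Y ⟶ XP => g ≫ π := by
      funext g; simp
    rw [this]
    refine Function.Bijective.comp ⟨fun a b hab => (cancel_mono X.isoSpec.hom).1 hab,
      fun b => ⟨b ≫ X.isoSpec.inv, by simp⟩⟩ (h.2 Y inferInstance)
  obtain ⟨e, he⟩ := exists_iso hπ' hm
  have haff : IsAffine XP := IsAffine.of_isIso e.hom
  have : IsIso e.inv.appTop := inferInstanceAs (IsIso (e.inv.app ⊤))
  let χ : Γ(XP, ⊤) →+* PerfectClosure R p :=
    ((Scheme.ΓSpecIso _).hom.hom).comp e.inv.appTop.hom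
  have hχ : Function.Bijective χ :=
    (ConcreteCategory.bijective_of_isIso (Scheme.ΓSpecIso (CommRingCat.of (PerfectClosure R p))).hom).comp
      (ConcreteCategory.bijective_of_isIso e.inv.appTop)
  have hcomp : ∀ a : R, χ (π.appTop a) = PerfectClosure.of R p a := by
    intro a
    have h1 : π = e.hom ≫ model R ≫ X.isoSpec.inv := by rw [reassoc_of% he]; simp
    have h2 := congrArg (fun t => t.appTop a) h1
    simp only at h2
    have h3 : X.isoSpec.inv.appTop a = (Scheme.ΓSpecIso R).inv a := by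
      simp [Scheme.isoSpec, R]
    simp only [Scheme.Hom.comp_appTop, CommRingCat.comp_apply, h3] at h2
    have h4 : e.inv.appTop (e.hom.appTop ((model (p := p) R).appTop ((Scheme.ΓSpecIso R).inv a))) =
        (model (p := p) R).appTop ((Scheme.ΓSpecIso R).inv a) := by
      rw [← CommRingCat.comp_apply, ← Scheme.Hom.comp_appTop, e.inv_hom_id]
      rfl
    change (Scheme.ΓSpecIso _).hom (e.inv.appTop (π.appTop a)) = _
    erw [h2, h4]
    rw [model, ← CommRingCat.comp_apply, Scheme.ΓSpecIso_naturality, CommRingCat.comp_apply]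
    simp
  refine ⟨haff, fun s => ?_, fun a ha => ?_⟩
  · obtain ⟨⟨n, a⟩, ha⟩ := PerfectClosure.mk_surjective R p (χ s)
    refine ⟨n, a, hχ.1 ?_⟩
    rw [hcomp, map_pow, ← ha, ← PerfectClosure.iterate_frobenius_mk (K := R) (p := p) n a, iterate_frobenius]
  · have := hcomp a
    rw [ha, map_zero, eq_comm, PerfectClosure.of_apply, PerfectClosure.zero_def,
      PerfectClosure.mk_eq_iff] at this
    obtain ⟨z, hz⟩ := this
    refine ⟨z, ?_⟩
    simpa [iterate_frobenius, zero_pow (pow_ne_zero z (Fact.out : p.Prime).ne_zero)] using hz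

omit [IsCharP XP p] in
lemma isCharP_opens (U : X.Opens) : IsCharP (U : Scheme.{u}) p := IsCharP.of_hom U.ι p

theorem structure_open (h : IsPerfection π p) {U : X.Opens} (hU : IsAffineOpen U) :
    IsAffineOpen (π ⁻¹ᵁ U) ∧
      (∀ s : Γ(XP, π ⁻¹ᵁ U), ∃ (n : ℕ) (a : Γ(X, U)), π.app U a = s ^ p ^ n) ∧
      (∀ a : Γ(X, U), π.app U a = 0 → ∃ n : ℕ, a ^ p ^ n = 0) := by
  have : IsAffine U.toScheme := hU
  have := isCharP_opens (p := p) U
  have := isCharP_opens (p := p) (π ⁻¹ᵁ U)
  obtain ⟨h1, h2, h3⟩ := structure_affine (restrict h U)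
  have key : ∀ a : Γ(X, U), (π ∣_ U).appTop (U.topIso.inv a) = (π ⁻¹ᵁ U).topIso.inv (π.app U a) := by
    intro a
    simp only [← CommRingCat.comp_apply]
    congr 2
    simp [Scheme.Hom.app_eq_appLE, morphismRestrict_appTop, Scheme.Opens.topIso]
    erw [Scheme.Hom.map_appLE, Scheme.Hom.appLE_map]
  refine ⟨h1, fun s => ?_, fun a ha => ?_⟩
  · obtain ⟨n, a, ha⟩ := h2 ((π ⁻¹ᵁ U).topIso.inv s)
    obtain ⟨a, rfl⟩ := (ConcreteCategory.bijective_of_isIso U.topIso.inv).2 a
    refine ⟨n, a, (ConcreteCategory.bijective_of_isIso (π ⁻¹ᵁ U).topIso.inv).1 ?_⟩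
    rw [← key, ha, map_pow]
  · obtain ⟨n, hn⟩ := h3 (U.topIso.inv a) (by rw [key, ha, map_zero])
    refine ⟨n, (ConcreteCategory.bijective_of_isIso U.topIso.inv).1 ?_⟩
    rw [map_pow, hn, map_zero]

theorem isAffineHom (h : IsPerfection π p) : IsAffineHom π :=
  ⟨fun _ hU => (structure_open h hU).1⟩

theorem isIntegralHom (h : IsPerfection π p) : IsIntegralHom π := by
  have := isAffineHom h
  refine ⟨fun U hU s => ?_⟩
  obtain ⟨n, a, ha⟩ := (structure_open h hU).2.1 s
  exact ⟨Polynomial.X ^ p ^ n - Polynomial.C a,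
    Polynomial.monic_X_pow_sub_C _ (pow_ne_zero n (Fact.out : p.Prime).ne_zero), by simp [ha]⟩

omit [IsCharP XP p] in
theorem isPerfect_specField (K : Type u) [Field K] [IsAlgClosed K] [IsCharP (Spec (.of K)) p] :
    FrobSch.IsPerfect (Spec (CommRingCat.of K)) p := by
  refine isPerfect_of_isAffine ?_
  let e := (Scheme.ΓSpecIso (CommRingCat.of K)).commRingCatIsoToRingEquiv
  have hK : (p : K) = 0 := by
    have := congrArg e (IsCharP.natCast_eq_zero (X := Spec (CommRingCat.of K)) (p := p))
    simpa using this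
  have : CharP K p := (CharP.charP_iff_prime_eq_zero Fact.out).2 hK
  have : (fun s : Γ(Spec (CommRingCat.of K), ⊤) => s ^ p) =
      e.symm ∘ (fun s : K => s ^ p) ∘ e := by
    funext s; simp
  rw [this]
  refine e.symm.bijective.comp (Function.Bijective.comp ⟨frobenius_inj K p, fun y => ?_⟩ e.bijective)
  exact IsAlgClosed.exists_pow_nat_eq y (Fact.out : p.Prime).pos

omit [IsCharP XP p] in
/-- An algebraically closed point over a given point. -/
theorem exists_geomPoint {Z : Scheme.{u}} (q : Z ⟶ X) (z : Z) :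
    ∃ (K : Type u) (_ : Field K) (_ : IsCharP (Spec (CommRingCat.of K)) p)
      (_ : FrobSch.IsPerfect (Spec (CommRingCat.of K)) p) (g : Spec (CommRingCat.of K) ⟶ Z),
      ∀ w, g w = z := by
  let K := AlgebraicClosure (Z.residueField z)
  let g : Spec (CommRingCat.of K) ⟶ Z :=
    Spec.map (CommRingCat.ofHom (algebraMap (Z.residueField z) K)) ≫ Z.fromSpecResidueField z
  have := IsCharP.of_hom (g ≫ q) p
  exact ⟨K, inferInstance, inferInstance, isPerfect_specField K, g,
    fun w => by rw [Scheme.Hom.comp_apply, Scheme.fromSpecResidueField_apply]⟩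

theorem surjective (h : IsPerfection π p) : Surjective π := by
  refine ⟨fun x => ?_⟩
  obtain ⟨K, _, _, _, g, hg⟩ := exists_geomPoint (p := p) (𝟙 X) x
  obtain ⟨l, hl : l ≫ π = g⟩ := (h.2 (Spec (CommRingCat.of K)) inferInstance).2 g
  exact ⟨l (IsLocalRing.closedPoint K), by rw [← Scheme.Hom.comp_apply, hl, hg]⟩

theorem universallyInjective (h : IsPerfection π p) : UniversallyInjective π := by
  rw [UniversallyInjective.iff_diagonal]
  refine ⟨fun z => ?_⟩
  obtain ⟨K, _, _, _, g, hg⟩ := exists_geomPoint (p := p) (pullback.fst π π ≫ π) z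
  have he : g ≫ pullback.fst π π = g ≫ pullback.snd π π :=
    (h.2 (Spec (CommRingCat.of K)) inferInstance).1 (by simp [pullback.condition])
  refine ⟨(g ≫ pullback.fst π π) (IsLocalRing.closedPoint K), ?_⟩
  have hd : (g ≫ pullback.fst π π) ≫ pullback.diagonal π = g :=
    pullback.hom_ext (by simp) (by simp [he])
  rw [← Scheme.Hom.comp_apply, hd, hg]

theorem isHomeomorph (h : IsPerfection π p) : IsHomeomorph π := by
  have := isIntegralHom h
  have := surjective h
  have := universallyInjective h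
  exact isHomeomorph_iff_continuous_isClosedMap_bijective.2
    ⟨π.continuous, π.isClosedMap, π.injective, π.surjective⟩

theorem isUnivHomeo (h : IsPerfection π p) : FlatMor.IsUnivHomeo π := by
  have := isIntegralHom h
  have := surjective h
  have := universallyInjective h
  exact Groth.Variety2.isUnivHomeo_of π

end Structure

end Groth.Misc7.Perfection
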