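import Groth.Agent.Misc7.Perfection.Basic

/-!
# Global sections of perfections and descent of affineness
-/

set_option autoImplicit false

universe u

open CategoryTheory CategoryTheory.Limits AlgebraicGeometry FrobSch TopologicalSpace

namespace Groth.Misc7.Perfection

variable {p : ℕ} [Fact p.Prime]

lemma add_pow_char_pow' {A : Type u} [CommRing A] (hA : (p : A) = 0) (a b : A) (n : ℕ) :
    (a + b) ^ p ^ n = a ^ p ^ n + b ^ p ^ n := by
  induction n with
  | zero => simp
  | succ n ih =>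
    rw [pow_succ, pow_mul, pow_mul, pow_mul, ih]
    exact map_add (powHom p A hA) _ _

lemma pow_pow_eq_zero_of_le {A : Type u} [CommRing A] {a : A} {m n : ℕ} (h : a ^ p ^ m = 0)
    (hmn : m ≤ n) : a ^ p ^ n = 0 :=
  pow_eq_zero_of_le (Nat.pow_le_pow_right (Fact.out : p.Prime).pos hmn) h

variable {X XP : Scheme.{u}} [IsCharP X p] [IsCharP XP p] {π : XP ⟶ X}

omit [Fact p.Prime] [IsCharP X p] [IsCharP XP p] in
lemma app_res {U V : X.Opens} (i : V ≤ U) (a : Γ(X, U)) :
    π.app V (X.presheaf.map (homOfLE i).op a) =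
      XP.presheaf.map (homOfLE (π.preimage_mono i)).op (π.app U a) :=
  congrArg (fun t => t.hom a) (π.naturality (homOfLE i).op)

omit [Fact p.Prime] [IsCharP X p] [IsCharP XP p] in
lemma eq_of_res_sup {U V : X.Opens} {a b : Γ(X, U ⊔ V)}
    (h1 : X.presheaf.map (homOfLE (le_sup_left : U ≤ U ⊔ V)).op a =
      X.presheaf.map (homOfLE le_sup_left).op b)
    (h2 : X.presheaf.map (homOfLE (le_sup_right : V ≤ U ⊔ V)).op a =
      X.presheaf.map (homOfLE le_sup_right).op b) : a = b := by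
  refine TopCat.Sheaf.eq_of_locally_eq' X.sheaf (fun i : Bool => cond i U V) (U ⊔ V)
    (fun i => homOfLE (by cases i <;> simp)) (fun x hx => ?_) a b (fun i => ?_)
  · rcases hx with hx | hx
    · exact Opens.mem_iSup.2 ⟨true, hx⟩
    · exact Opens.mem_iSup.2 ⟨false, hx⟩
  · cases i
    · exact h2
    · exact h1

theorem nilpotent_of_app_eq_zero (h : IsPerfection π p) {U : X.Opens} (hU : IsCompact (U : Set X))
    (a : Γ(X, U)) (ha : π.app U a = 0) : ∃ n : ℕ, a ^ p ^ n = 0 := by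
  revert a
  refine compact_open_induction_on (P := fun U : X.Opens => ∀ a : Γ(X, U), π.app U a = 0 →
    ∃ n : ℕ, a ^ p ^ n = 0) U hU ?_ ?_
  · exact (structure_open h (isAffineOpen_bot X)).2.2
  · intro S _ W ih a ha
    obtain ⟨m, hm⟩ := ih (X.presheaf.map (homOfLE le_sup_left).op a)
      (by rw [app_res, ha, map_zero])
    obtain ⟨n, hn⟩ := (structure_open h W.2).2.2 (X.presheaf.map (homOfLE le_sup_right).op a)
      (by rw [app_res, ha, map_zero])
    refine ⟨max m n, eq_of_res_sup ?_ ?_⟩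
    · rw [map_pow, map_zero, pow_pow_eq_zero_of_le hm (le_max_left _ _)]
    · rw [map_pow, map_zero, pow_pow_eq_zero_of_le hn (le_max_right _ _)]

theorem exists_app_eq_pow (h : IsPerfection π p) [QuasiSeparatedSpace X] {U : X.Opens}
    (hU : IsCompact (U : Set X)) (s : Γ(XP, π ⁻¹ᵁ U)) :
    ∃ (n : ℕ) (a : Γ(X, U)), π.app U a = s ^ p ^ n := by
  revert s
  refine compact_open_induction_on (P := fun U : X.Opens => ∀ s : Γ(XP, π ⁻¹ᵁ U),
    ∃ (n : ℕ) (a : Γ(X, U)), π.app U a = s ^ p ^ n) U hU ?_ ?_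
  · exact (structure_open h (isAffineOpen_bot X)).2.1
  · intro S hS ⟨W', hW'⟩ ih s
    obtain ⟨m, a, ha⟩ := ih (XP.presheaf.map (homOfLE (π.preimage_mono le_sup_left)).op s)
    obtain ⟨n, b, hb⟩ := (structure_open h hW').2.1
      (XP.presheaf.map (homOfLE (π.preimage_mono (le_sup_right : W' ≤ S ⊔ W'))).op s)
    let a' := a ^ p ^ n
    let b' := b ^ p ^ m
    have ha' : π.app S a' =
        XP.presheaf.map (homOfLE (π.preimage_mono le_sup_left)).op (s ^ p ^ (m + n)) := by
      simp only [a', map_pow, ha, ← pow_mul, ← pow_add]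
    have hb' : π.app W' b' =
        XP.presheaf.map (homOfLE (π.preimage_mono le_sup_right)).op (s ^ p ^ (m + n)) := by
      simp only [b', map_pow, hb, ← pow_mul, ← pow_add, Nat.add_comm n m]
    have hc : IsCompact ((S ⊓ W' : X.Opens) : Set X) :=
      QuasiSeparatedSpace.inter_isCompact _ _ S.2 hS W'.2 hW'.isCompact
    obtain ⟨e, he⟩ := nilpotent_of_app_eq_zero h hc
      (X.presheaf.map (homOfLE inf_le_left).op a' - X.presheaf.map (homOfLE inf_le_right).op b') (by
        rw [map_sub, app_res, app_res, ha', hb', sub_eq_zero]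
        change (XP.presheaf.map _ ≫ XP.presheaf.map _).hom (s ^ p ^ (m + n)) =
          (XP.presheaf.map _ ≫ XP.presheaf.map _).hom (s ^ p ^ (m + n))
        rw [← Functor.map_comp, ← Functor.map_comp]
        rfl)
    have heq : X.presheaf.map (homOfLE (inf_le_left : S ⊓ W' ≤ S)).op (a' ^ p ^ e) =
        X.presheaf.map (homOfLE (inf_le_right : S ⊓ W' ≤ W')).op (b' ^ p ^ e) := by
      have h1 := add_pow_char_pow' (natCast_eq_zero_app X p (S ⊓ W'))
        (X.presheaf.map (homOfLE inf_le_left).op a' - X.presheaf.map (homOfLE inf_le_right).op b')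
        (X.presheaf.map (homOfLE inf_le_right).op b') e
      rw [sub_add_cancel, he, zero_add] at h1
      exact ((map_pow _ a' _).trans h1).trans (map_pow _ b' _).symm
    refine ⟨m + n + e, (X.sheaf.objSupIsoProdEqLocus S W').inv ⟨⟨a' ^ p ^ e, b' ^ p ^ e⟩, heq⟩,
      eq_of_res_sup (X := XP) (U := π ⁻¹ᵁ S) (V := π ⁻¹ᵁ W') ?_ ?_⟩
    · refine (app_res (π := π) (le_sup_left : S ≤ S ⊔ W') _).symm.trans ?_
      erw [X.sheaf.objSupIsoProdEqLocus_inv_fst S W' ⟨⟨a' ^ p ^ e, b' ^ p ^ e⟩, heq⟩]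
      rw [map_pow]
      erw [ha']
      rw [← map_pow, ← pow_mul, ← pow_add]
      rfl
    · refine (app_res (π := π) (le_sup_right : W' ≤ S ⊔ W') _).symm.trans ?_
      erw [X.sheaf.objSupIsoProdEqLocus_inv_snd S W' ⟨⟨a' ^ p ^ e, b' ^ p ^ e⟩, heq⟩]
      rw [map_pow]
      erw [hb']
      rw [← map_pow, ← pow_mul, ← pow_add]
      rfl

/-- If the perfection is affine then so is the scheme. -/
theorem isAffine_of_isAffine (h : IsPerfection π p) [IsAffine XP] : IsAffine X := by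
  have hh := isHomeomorph h
  have hsurj := surjective h
  have : QuasiSeparatedSpace X := hh.homeomorph.symm.isOpenEmbedding.quasiSeparatedSpace
  have : CompactSpace X := hh.homeomorph.compactSpace
  let T : Set Γ(X, ⊤) := {t | IsAffineOpen (X.basicOpen t)}
  refine isAffine_of_isAffineOpen_basicOpen T ?_ (fun t ht => ht)
  set ψ : Γ(X, ⊤) →+* Γ(XP, ⊤) := π.appTop.hom
  have hp0 : (p : Γ(XP, ⊤)) = 0 := natCast_eq_zero_app XP p ⊤
  have key : ∀ x : XP, ∃ t ∈ T, x ∈ XP.basicOpen (ψ t) := by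
    intro x
    obtain ⟨_, ⟨W, hW, rfl⟩, hxW, -⟩ :=
      X.isBasis_affineOpens.exists_subset_of_mem_open (Set.mem_univ (π x)) isOpen_univ
    replace hW : IsAffineOpen W := hW
    obtain ⟨s, hs, hxs⟩ := (isAffineOpen_top XP).exists_basicOpen_le (V := π ⁻¹ᵁ W) ⟨x, hxW⟩ trivial
    obtain ⟨n, t, ht⟩ := exists_app_eq_pow h isCompact_univ (U := ⊤) s
    have he : XP.basicOpen (ψ t) = XP.basicOpen s := by
      change XP.basicOpen (π.app ⊤ t) = _
      rw [ht]
      exact XP.toRingedSpace.basicOpen_pow s _ (pow_pos (Fact.out : p.Prime).pos n)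
    refine ⟨t, ?_, he ▸ hxs⟩
    have hle : X.basicOpen t ≤ W := by
      intro y hy
      obtain ⟨z, rfl⟩ := hsurj.surj y
      have : z ∈ π ⁻¹ᵁ X.basicOpen t := hy
      rw [Scheme.preimage_basicOpen] at this
      exact hs (he.le this)
    have : X.basicOpen (X.presheaf.map (homOfLE le_top : W ⟶ ⊤).op t) = X.basicOpen t := by
      rw [Scheme.basicOpen_res]
      exact inf_eq_right.2 hle
    exact (this ▸ hW.basicOpen _ : IsAffineOpen (X.basicOpen t))
  have htop : Ideal.span (ψ '' T) = ⊤ := by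
    rw [← (isAffineOpen_top XP).iSup_basicOpen_eq_self_iff, eq_top_iff]
    intro x _
    obtain ⟨t, ht, hxt⟩ := key x
    exact Opens.mem_iSup.2 ⟨⟨ψ t, t, ht, rfl⟩, hxt⟩
  have hmem : ∀ c ∈ Ideal.span (ψ '' T), ∃ (n : ℕ) (u : Γ(X, ⊤)),
      u ∈ Ideal.span T ∧ c ^ p ^ n = ψ u := by
    intro c hc
    induction hc using Submodule.span_induction with
    | mem c hc =>
      obtain ⟨t, ht, rfl⟩ := hc
      exact ⟨0, t, Ideal.subset_span ht, by simp⟩
    | zero => exact ⟨0, 0, zero_mem _, by simp⟩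
    | add c d _ _ hc hd =>
      obtain ⟨m, u, hu, hcu⟩ := hc
      obtain ⟨n, v, hv, hdv⟩ := hd
      have hpos : ∀ k : ℕ, 0 < p ^ k := fun k => pow_pos (Fact.out : p.Prime).pos k
      refine ⟨m + n, u ^ p ^ n + v ^ p ^ m,
        add_mem (Ideal.pow_mem_of_mem _ hu _ (hpos n)) (Ideal.pow_mem_of_mem _ hv _ (hpos m)), ?_⟩
      rw [add_pow_char_pow' hp0, map_add, map_pow ψ u, map_pow ψ v, ← hcu, ← hdv, ← pow_mul,
        ← pow_mul, ← pow_add, ← pow_add, Nat.add_comm n m]
    | smul r c _ hc =>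
      obtain ⟨m, u, hu, hcu⟩ := hc
      obtain ⟨n, v, hv⟩ := exists_app_eq_pow h isCompact_univ (U := ⊤) r
      have hv' : ψ v = r ^ p ^ n := hv
      refine ⟨m + n, v ^ p ^ m * u ^ p ^ n,
        Ideal.mul_mem_left _ _ (Ideal.pow_mem_of_mem _ hu _ (pow_pos (Fact.out : p.Prime).pos n)), ?_⟩
      rw [smul_eq_mul, mul_pow, map_mul, map_pow ψ v, map_pow ψ u, ← hcu, hv', ← pow_mul, ← pow_mul,
        ← pow_add, ← pow_add, Nat.add_comm n m]
  obtain ⟨n, u, hu, hu1⟩ := hmem 1 (htop ▸ Submodule.mem_top)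
  obtain ⟨e, he⟩ := nilpotent_of_app_eq_zero h (U := ⊤) isCompact_univ (u - 1) (by
    change ψ (u - 1) = 0
    rw [map_sub, map_one, ← hu1, one_pow, sub_self])
  refine Ideal.eq_top_of_isUnit_mem _ hu ?_
  have hun : IsUnit (u - 1 + 1) := IsNilpotent.isUnit_add_one ⟨_, he⟩
  simpa using hun

end Groth.Misc7.Perfection
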