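import Groth.Agent.Misc7.Perfection.Basic
import Groth.Agent.Variety2.Frobenius
import Groth.Agent.S18756
import Groth.Agent.Limits.Existence
import Mathlib.AlgebraicGeometry.AffineTransitionLimit

/-!
A perfection is the limit of the tower of Frobenius morphisms; hence flat finitely presented
morphisms to a perfection descend to the scheme itself.
-/

set_option autoImplicit false
set_option linter.style.haveILetI false

universe u

open CategoryTheory CategoryTheory.Limits AlgebraicGeometry FrobSch Opposite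

namespace Groth.Misc7.Perfection.Compose

variable (p : ℕ) [Fact p.Prime]

/-- Iterated absolute Frobenius. -/
noncomputable def frobPow (X : Scheme.{u}) [IsCharP X p] : ℕ → (X ⟶ X)
  | 0 => 𝟙 X
  | n + 1 => frob X p ≫ frobPow X n

variable {X Y : Scheme.{u}} [IsCharP X p] [IsCharP Y p]

theorem frobPow_add (m n : ℕ) : frobPow p X (m + n) = frobPow p X m ≫ frobPow p X n := by
  induction m with
  | zero => simp [frobPow]
  | succ m ih => rw [Nat.succ_add, frobPow, frobPow, ih, Category.assoc]

theorem frobPow_comp (f : X ⟶ Y) (n : ℕ) : frobPow p X n ≫ f = f ≫ frobPow p Y n := by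
  induction n with
  | zero => simp [frobPow]
  | succ n ih => rw [frobPow, frobPow, Category.assoc, ih, frob_comp_assoc]

theorem isAffineHom_frobPow (n : ℕ) : IsAffineHom (frobPow p X n) := by
  induction n with
  | zero => rw [frobPow]; infer_instance
  | succ n ih => rw [frobPow]; infer_instance

theorem isIso_frobPow [FrobSch.IsPerfect X p] (n : ℕ) : IsIso (frobPow p X n) := by
  induction n with
  | zero => rw [frobPow]; infer_instance
  | succ n ih => rw [frobPow]; infer_instance

variable (X)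

/-- The tower of Frobenius morphisms. -/
noncomputable def tower : (ULift.{u} ℕ)ᵒᵖ ⥤ Scheme.{u} where
  obj _ := X
  map {i j} _ := frobPow p X (i.unop.down - j.unop.down)
  map_id i := by simp [frobPow]
  map_comp {i j k} a b := by
    rw [← frobPow_add]
    have h1 : j.unop.down ≤ i.unop.down := (leOfHom a.unop : j.unop ≤ i.unop)
    have h2 : k.unop.down ≤ j.unop.down := (leOfHom b.unop : k.unop ≤ j.unop)
    congr 1; omega

instance isAffineHom_tower_map {i j : (ULift.{u} ℕ)ᵒᵖ} (a : i ⟶ j) :
    IsAffineHom ((tower p X).map a) :=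
  isAffineHom_frobPow p (X := X) _

instance hasLimit_tower : HasLimit (tower p X) :=
  Groth.Limits.hasLimit_of_isAffineHom (tower p X)

variable {X} {XP : Scheme.{u}} [IsCharP XP p] [FrobSch.IsPerfect XP p]

/-- The projection of the perfection to a stage. -/
noncomputable def proj (π : XP ⟶ X) (n : ℕ) : XP ⟶ X :=
  haveI := isIso_frobPow p (X := XP) n
  inv (frobPow p XP n) ≫ π

theorem proj_frobPow (π : XP ⟶ X) (n : ℕ) : proj p π n ≫ frobPow p X n = π := by
  rw [proj, Category.assoc, ← frobPow_comp p π, IsIso.inv_hom_id_assoc]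

theorem proj_tower (π : XP ⟶ X) (m n : ℕ) (h : n ≤ m) :
    proj p π m ≫ frobPow p X (m - n) = proj p π n := by
  haveI := isIso_frobPow p (X := XP) m
  rw [← cancel_epi (frobPow p XP m)]
  conv_lhs => rw [proj, Category.assoc, IsIso.hom_inv_id_assoc]
  haveI := isIso_frobPow p (X := XP) n
  rw [proj, ← frobPow_comp p π, show frobPow p XP m = frobPow p XP (m - n) ≫ frobPow p XP n by
    rw [← frobPow_add, Nat.sub_add_cancel h], Category.assoc, IsIso.hom_inv_id_assoc]

/-- The cone of the perfection over the tower. -/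
noncomputable def cone (π : XP ⟶ X) : Cone (tower p X) where
  pt := XP
  π :=
  { app := fun i => (proj p π i.unop.down : XP ⟶ X)
    naturality := fun i j a => by
      simp only [Functor.const_obj_map, Category.id_comp]
      exact (proj_tower p π _ _ (leOfHom a.unop : j.unop ≤ i.unop)).symm }

theorem proj_zero (π : XP ⟶ X) : proj p π 0 = π := by
  rw [proj]
  simp only [frobPow, IsIso.inv_id, Category.id_comp]

/-- A perfection is the limit of the tower of Frobenius morphisms. -/
theorem nonempty_isLimit_cone (π : XP ⟶ X) (h : IsPerfection π p) :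
    Nonempty (IsLimit (cone p π)) := by
  let L := limit (tower p X)
  let q : ∀ n : ℕ, L ⟶ X := fun n => limit.π (tower p X) (op ⟨n⟩)
  haveI : IsCharP L p := IsCharP.of_hom (q 0) p
  have hstep : ∀ n, q (n + 1) ≫ frob X p = q n := fun n => by
    have h1 := limit.w (tower p X) (show op (ULift.up (n + 1)) ⟶ op (ULift.up n) from
      (homOfLE (show (ULift.up n : ULift.{u} ℕ) ≤ ULift.up (n + 1) from Nat.le_succ n)).op)
    have h2 : q (n + 1) ≫ frobPow p X (n + 1 - n) = q n := h1
    rwa [show n + 1 - n = 1 by omega, frobPow, frobPow, Category.comp_id] at h2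
  have hext : ∀ {T : Scheme.{u}} {a b : T ⟶ L}, (∀ n, a ≫ q n = b ≫ q n) → a = b :=
    fun h => limit.hom_ext fun ⟨⟨n⟩⟩ => h n
  let sh : Cone (tower p X) :=
    { pt := L
      π :=
      { app := fun i => q (i.unop.down + 1)
        naturality := fun i j a => by
          simp only [Functor.const_obj_map, Category.id_comp]
          have h1 := limit.w (tower p X) (show op (ULift.up (i.unop.down + 1)) ⟶ op (ULift.up (j.unop.down + 1)) from
            (homOfLE (show (ULift.up (j.unop.down + 1) : ULift.{u} ℕ) ≤ ULift.up (i.unop.down + 1) from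
              Nat.succ_le_succ (leOfHom a.unop : j.unop ≤ i.unop))).op)
          have h2 : q (i.unop.down + 1) ≫ frobPow p X (i.unop.down + 1 - (j.unop.down + 1)) = q (j.unop.down + 1) := h1
          rw [Nat.add_sub_add_right] at h2
          exact h2.symm } }
  let g : L ⟶ L := limit.lift (tower p X) sh
  have hg : ∀ n, g ≫ q n = q (n + 1) := fun n => limit.lift_π sh _
  haveI hL : FrobSch.IsPerfect L p := by
    refine ⟨g, hext fun n => ?_, hext fun n => ?_⟩
    · rw [Category.assoc, hg, Category.id_comp, frob_comp p (q (n + 1)), hstep]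
    · rw [Category.assoc, Category.id_comp, frob_comp p (q n), reassoc_of% (hg n), hstep]
  have hq0 : ∀ n, q n ≫ frobPow p X n = q 0 := fun n => by
    induction n with
    | zero => simp [frobPow]
    | succ n ih => rw [frobPow, reassoc_of% (hstep n), ih]
  have hqp : ∀ n, q n = proj p (q 0) n := fun n => by
    haveI := isIso_frobPow p (X := L) n
    rw [← cancel_epi (frobPow p L n), proj, IsIso.hom_inv_id_assoc, frobPow_comp p (q n), hq0]
  have hperf : IsPerfection (q 0) p := by
    refine ⟨hL, fun T _ hT => ⟨fun a b hab => hext fun n => ?_, fun t => ?_⟩⟩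
    · haveI := isIso_frobPow p (X := T) n
      rw [← cancel_epi (frobPow p T n)]
      simp only [← Category.assoc, frobPow_comp p a, frobPow_comp p b]
      simp only [Category.assoc]
      rw [hqp n, proj]
      haveI := isIso_frobPow p (X := L) n
      simp only [IsIso.hom_inv_id_assoc]
      exact hab
    · haveI := hT
      refine ⟨limit.lift (tower p X) (cone p t), ?_⟩
      show limit.lift (tower p X) (cone p t) ≫ q 0 = t
      exact (limit.lift_π (cone p t) (op ⟨0⟩)).trans (proj_zero p t :)
  obtain ⟨e, he⟩ := exists_iso (p := p) h hperf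
  let u : XP ⟶ L := limit.lift (tower p X) (cone p π)
  have hu : u = e.hom := (hperf.2 XP h.1).1 (show u ≫ q 0 = e.hom ≫ q 0 by
    rw [he]; exact (limit.lift_π (cone p π) (op ⟨0⟩)).trans (proj_zero p π :))
  haveI : IsIso ((limit.isLimit (tower p X)).lift (cone p π)) := by
    show IsIso u
    rw [hu]; infer_instance
  exact ⟨IsLimit.ofPointIso (limit.isLimit (tower p X))⟩

/-- Composites of perfections of flat finitely presented morphisms. -/
theorem exists_comp {X Y Z Y₀ Z₀ : Scheme.{u}} [IsCharP X p] [IsCharP Y p] [IsCharP Z p]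
    [IsCharP Y₀ p] [IsCharP Z₀ p] [CompactSpace X] [QuasiSeparatedSpace X] [FrobSch.IsPerfect X p]
    (g₀ : Y₀ ⟶ X) [Flat g₀] [LocallyOfFinitePresentation g₀] [QuasiCompact g₀] [QuasiSeparated g₀]
    (πY : Y ⟶ Y₀) (hY : IsPerfection πY p)
    (f₀ : Z₀ ⟶ Y) [Flat f₀] [LocallyOfFinitePresentation f₀] [QuasiCompact f₀] [QuasiSeparated f₀]
    (πZ : Z ⟶ Z₀) (hZ : IsPerfection πZ p) :
    ∃ (W₀ : Scheme.{u}) (h₀ : W₀ ⟶ X) (ϖ : Z ⟶ W₀),
      Flat h₀ ∧ LocallyOfFinitePresentation h₀ ∧ QuasiCompact h₀ ∧ QuasiSeparated h₀ ∧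
        IsPerfection ϖ p ∧ ϖ ≫ h₀ = πZ ≫ f₀ ≫ πY ≫ g₀ ∧
          (Surjective g₀ → Surjective f₀ → Surjective h₀) := by
  haveI := hY.1
  haveI : CompactSpace Y₀ := QuasiCompact.compactSpace_of_compactSpace g₀
  haveI : QuasiSeparatedSpace Y₀ := quasiSeparatedSpace_of_quasiSeparated g₀
  haveI : ∀ i, CompactSpace ((tower p Y₀).obj i) := fun _ => (show CompactSpace Y₀ from inferInstance)
  haveI : ∀ i, QuasiSeparatedSpace ((tower p Y₀).obj i) := fun _ =>
    (show QuasiSeparatedSpace Y₀ from inferInstance)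
  obtain ⟨hlim⟩ := nonempty_isLimit_cone p πY hY
  let f₁ : Z₀ ⟶ (cone p πY).pt := f₀
  haveI : Flat f₁ := ‹Flat f₀›
  haveI : LocallyOfFinitePresentation f₁ := ‹LocallyOfFinitePresentation f₀›
  haveI : QuasiCompact f₁ := ‹QuasiCompact f₀›
  haveI : QuasiSeparated f₁ := ‹QuasiSeparated f₀›
  obtain ⟨i, V, v, e, hvf, hvfp, hvqc, hvqs, hsq⟩ := Groth.Agent.S18756.exists_flat_stage hlim f₁
  let n := i.unop.down
  let v₀ : V ⟶ Y₀ := v
  haveI : Flat v₀ := hvf
  haveI : LocallyOfFinitePresentation v₀ := hvfp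
  haveI : QuasiCompact v₀ := hvqc
  haveI : QuasiSeparated v₀ := hvqs
  haveI := isIso_frobPow p (X := X) n
  let h₀ : V ⟶ X := v₀ ≫ g₀ ≫ frobPow p X n
  have hsq' : IsPullback e f₀ v₀ (proj p πY n) := @id _ hsq
  haveI : IsCharP V p := IsCharP.of_hom h₀ p
  refine ⟨V, h₀, πZ ≫ e, inferInstance, inferInstance, inferInstance, inferInstance,
    ⟨hZ.1, fun T _ hT => ⟨fun a b hab => ?_, fun t => ?_⟩⟩, ?_, fun hg hf => ?_⟩
  · haveI := hT
    have h1 : a ≫ πZ ≫ f₀ ≫ proj p πY n = b ≫ πZ ≫ f₀ ≫ proj p πY n := by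
      have := congrArg (· ≫ v₀) hab
      simp only [Category.assoc, hsq'.w] at this
      exact this
    have h2 : a ≫ πZ ≫ f₀ = b ≫ πZ ≫ f₀ := by
      refine (hY.2 T hT).1 ?_
      have := congrArg (· ≫ frobPow p Y₀ n) h1
      simpa only [Category.assoc, proj_frobPow] using this
    refine (hZ.2 T hT).1 (hsq'.hom_ext ?_ (by simpa only [Category.assoc] using h2))
    simpa only [Category.assoc] using hab
  · haveI := hT
    haveI := isIso_frobPow p (X := T) n
    obtain ⟨α, hα : α ≫ πY = t ≫ v₀ ≫ frobPow p Y₀ n⟩ := (hY.2 T hT).2 (t ≫ v₀ ≫ frobPow p Y₀ n)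
    have hα' : t ≫ v₀ = α ≫ proj p πY n := by
      rw [← cancel_epi (frobPow p T n)]
      rw [← Category.assoc _ α, frobPow_comp p α, Category.assoc, proj]
      haveI := isIso_frobPow p (X := Y) n
      rw [IsIso.hom_inv_id_assoc, hα, frobPow_comp p (t ≫ v₀), Category.assoc]
    obtain ⟨a, ha : a ≫ πZ = hsq'.lift t α hα'⟩ := (hZ.2 T hT).2 (hsq'.lift t α hα')
    refine ⟨a, ?_⟩
    show a ≫ πZ ≫ e = t
    rw [reassoc_of% ha, hsq'.lift_fst]
  · show (πZ ≫ e) ≫ v₀ ≫ g₀ ≫ frobPow p X n = _
    rw [Category.assoc, hsq'.w_assoc, ← frobPow_comp p g₀, ← Category.assoc (proj p πY n),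
      proj_frobPow]
  · haveI := hg; haveI := hf
    haveI : Surjective v₀ := ⟨fun y => by
      haveI := isIso_frobPow p (X := Y) n
      have hπ : Surjective πY := Groth.Misc7.Perfection.surjective hY
      have hproj : Surjective (proj p πY n) := by rw [proj]; infer_instance
      obtain ⟨z, rfl⟩ := hproj.surj y
      obtain ⟨w, rfl⟩ := hf.surj z
      exact ⟨e w, by rw [← Scheme.Hom.comp_apply, hsq'.w, Scheme.Hom.comp_apply]⟩⟩
    infer_instance

end Groth.Misc7.Perfection.Compose
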