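import Groth.Agent.Misc7.Perfection.Props
import Mathlib.AlgebraicGeometry.Morphisms.FlatMono

/-!
# The perfection of an étale morphism is its base change
-/

set_option autoImplicit false

universe u

open CategoryTheory CategoryTheory.Limits AlgebraicGeometry FrobSch TopologicalSpace

namespace Groth.Misc7.Perfection

variable {p : ℕ} [Fact p.Prime]

theorem isPerfect_of_etale {P S : Scheme.{u}} [IsCharP S p] [IsCharP P p] [FrobSch.IsPerfect S p]
    (g : P ⟶ S) [Etale g] : FrobSch.IsPerfect P p := by
  have h1 : Etale (relFrob g p ≫ pullback.snd g (frob S p)) := by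
    rw [relFrob_snd]; infer_instance
  have : Etale (pullback.snd g (frob S p)) :=
    MorphismProperty.pullback_snd _ _ inferInstance
  have : Etale (relFrob g p) := Etale.of_comp (relFrob g p) (pullback.snd g (frob S p))
  have hs : Surjective (pullback.diagonal (relFrob g p)) :=
    (UniversallyInjective.iff_diagonal _).mp inferInstance
  have : Epi (pullback.diagonal (relFrob g p)).base := (TopCat.epi_iff_surjective _).mpr hs.1
  have : IsIso (pullback.diagonal (relFrob g p)) := IsOpenImmersion.isIso _
  have : Mono (relFrob g p) := (pullback.isIso_diagonal_iff _).mp inferInstance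
  have : IsOpenImmersion (relFrob g p) := IsOpenImmersion.of_flat_of_mono _
  have : Epi (relFrob g p).base := (TopCat.epi_iff_surjective _).mpr (relFrob g p).surjective
  have : IsIso (relFrob g p) := IsOpenImmersion.isIso _
  rw [FrobSch.IsPerfect, ← relFrob_fst g p]
  infer_instance

variable {X Y XP YP : Scheme.{u}}
  [IsCharP X p] [IsCharP Y p] [IsCharP XP p] [IsCharP YP p]
  {πX : XP ⟶ X} {πY : YP ⟶ Y}
  (hX : IsPerfection πX p) (hY : IsPerfection πY p)
  {f : X ⟶ Y} {fP : XP ⟶ YP} (w : fP ≫ πY = πX ≫ f)

include hX hY w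

theorem isPullback_of_etale [Etale f] : IsPullback fP πX πY f := by
  have := hY.1
  have := IsCharP.of_hom (pullback.fst πY f) p
  have : FrobSch.IsPerfect (pullback πY f) p := isPerfect_of_etale (pullback.fst πY f)
  have hP : IsPerfection (pullback.snd πY f) p := by
    refine ⟨inferInstance, fun Z _ hZ => ⟨fun a b hab => ?_, fun g => ?_⟩⟩
    · refine pullback.hom_ext ((hY.2 Z hZ).1 ?_) hab
      simp only [Category.assoc, pullback.condition]
      rw [← Category.assoc, ← Category.assoc]
      exact congrArg (· ≫ f) hab
    · obtain ⟨k, hk : k ≫ πY = g ≫ f⟩ := (hY.2 Z hZ).2 (g ≫ f)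
      exact ⟨pullback.lift k g hk, pullback.lift_snd _ _ _⟩
  obtain ⟨e, he⟩ := exists_iso hX hP
  have he' : e.hom ≫ pullback.fst πY f = fP := (hY.2 XP hX.1).1 (by
    simp only [Category.assoc, pullback.condition, w]
    rw [← Category.assoc, he])
  exact IsPullback.of_iso_pullback ⟨w⟩ e he' he

end Groth.Misc7.Perfection
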