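import Groth.Agent.Misc7.Perfection.Props

/-!
# Flatness of morphisms and their perfections
-/

set_option autoImplicit false

universe u

open CategoryTheory CategoryTheory.Limits AlgebraicGeometry FrobSch TopologicalSpace

namespace Groth.Misc7.Perfection

variable {p : ℕ} [Fact p.Prime] {X Y XP YP : Scheme.{u}}
  [IsCharP X p] [IsCharP Y p] [IsCharP XP p] [IsCharP YP p]
  {πX : XP ⟶ X} {πY : YP ⟶ Y}
  (hX : IsPerfection πX p) (hY : IsPerfection πY p)
  {f : X ⟶ Y} {fP : XP ⟶ YP} (w : fP ≫ πY = πX ≫ f)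

include hX hY w

theorem flat [Flat f] : Flat fP := by
  rw [HasRingHomProperty.iff_exists_appLE (P := @Flat)
    (RingHom.Flat.stableUnderComposition.stableUnderCompositionWithLocalizationAway
      RingHom.Flat.holdsForLocalizationAway).left]
  intro x
  obtain ⟨_, ⟨V, hV, rfl⟩, hxV, -⟩ :=
    Y.isBasis_affineOpens.exists_subset_of_mem_open (Set.mem_univ (f (πX x))) isOpen_univ
  obtain ⟨_, ⟨U, hU, rfl⟩, hxU, hUV⟩ :=
    X.isBasis_affineOpens.exists_subset_of_mem_open (show πX x ∈ ((f ⁻¹ᵁ V : X.Opens) : Set X) from hxV)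
      (f ⁻¹ᵁ V).isOpen
  replace hV : IsAffineOpen V := hV
  replace hU : IsAffineOpen U := hU
  obtain ⟨hU', hUp, hUk⟩ := structure_open hX hU
  obtain ⟨hV', hVp, -⟩ := structure_open hY hV
  have hle : πX ⁻¹ᵁ U ≤ fP ⁻¹ᵁ πY ⁻¹ᵁ V := by
    rw [preimage_comm w]
    exact πX.preimage_mono hUV
  refine ⟨⟨_, hV'⟩, ⟨_, hU'⟩, hxU, hle, ?_⟩
  have hc : ∀ a, (fP.appLE (πY ⁻¹ᵁ V) (πX ⁻¹ᵁ U) hle).hom ((πY.app V).hom a) =
      (πX.app U).hom ((f.appLE V U hUV).hom a) := by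
    intro a
    have h1 : πY.app V ≫ fP.appLE (πY ⁻¹ᵁ V) (πX ⁻¹ᵁ U) hle = f.appLE V U hUV ≫ πX.app U := by
      rw [Scheme.Hom.app_eq_appLE, Scheme.Hom.app_eq_appLE, Scheme.Hom.appLE_comp_appLE,
        Scheme.Hom.appLE_comp_appLE]
      congr 1
    exact congrArg (fun t => t.hom a) h1
  haveI := hX.1
  haveI := hY.1
  exact flat_of_flat (p := p) (f.appLE V U hUV).hom (πY.app V).hom (πX.app U).hom _ (RingHom.ext hc)
    (natCast_eq_zero_app YP p _) (natCast_eq_zero_app XP p _)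
    (fun n => bijective_pow_pow _ n) (fun n => bijective_pow_pow _ n)
    hVp hUp hUk (natCast_eq_zero_app X p _)
    (f.flat_appLE hV hU hUV)

end Groth.Misc7.Perfection
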