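import Groth.Agent.Misc7.Perfection.Sections
import Groth.Agent.PropsBasic.UnivHomeo

/-!
# Properties of morphisms and their perfections
-/

set_option autoImplicit false

universe u

open CategoryTheory CategoryTheory.Limits AlgebraicGeometry FrobSch TopologicalSpace

namespace Groth.Misc7.Perfection

variable {p : ℕ} [Fact p.Prime] {X Y XP YP : Scheme.{u}}
  [IsCharP X p] [IsCharP Y p] [IsCharP XP p] [IsCharP YP p]
  {πX : XP ⟶ X} {πY : YP ⟶ Y}
  (hX : IsPerfection πX p) (hY : IsPerfection πY p)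
  {f : X ⟶ Y} {fP : XP ⟶ YP} (w : fP ≫ πY = πX ≫ f)

include hX hY w

omit hX hY in
lemma preimage_comm (V : Y.Opens) : fP ⁻¹ᵁ πY ⁻¹ᵁ V = πX ⁻¹ᵁ f ⁻¹ᵁ V :=
  congrArg (fun t => t ⁻¹ᵁ V) w

theorem universallyClosed_iff : UniversallyClosed f ↔ UniversallyClosed fP := by
  have := isIntegralHom hX
  have := isIntegralHom hY
  have := surjective hX
  constructor <;> intro
  · have : UniversallyClosed (fP ≫ πY) := w ▸ inferInstance
    exact UniversallyClosed.of_comp_of_isSeparated fP πY
  · have : UniversallyClosed (πX ≫ f) := w ▸ inferInstance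
    exact UniversallyClosed.of_comp_surjective πX f

theorem surjective_iff : Surjective f ↔ Surjective fP := by
  have := surjective hX
  have := surjective hY
  constructor <;> intro hs
  · refine ⟨fun y => ?_⟩
    obtain ⟨x, hx⟩ := hs.surj (πY y)
    obtain ⟨x', rfl⟩ := πX.surjective x
    refine ⟨x', (isHomeomorph hY).injective ?_⟩
    rw [← hx, ← Scheme.Hom.comp_apply, w]
    rfl
  · have : Surjective (πX ≫ f) := w ▸ inferInstance
    exact Surjective.of_comp πX f

theorem universallyInjective_iff : UniversallyInjective f ↔ UniversallyInjective fP := by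
  have := universallyInjective hX
  have := universallyInjective hY
  constructor <;> intro hu
  · have hc : UniversallyInjective (fP ≫ πY) :=
      w ▸ MorphismProperty.comp_mem (W := @UniversallyInjective) _ _ inferInstance hu
    have h0 := (tfae_universallyInjective fP).out 0 1
    have h1 := (tfae_universallyInjective (fP ≫ πY)).out 0 1
    refine h0.2 fun K _ g₁ g₂ e => ?_
    exact h1.1 hc K
      (show g₁ ≫ fP ≫ πY = g₂ ≫ fP ≫ πY by rw [← Category.assoc, ← Category.assoc]; exact congrArg (· ≫ πY) e)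
  · rw [UniversallyInjective.iff_diagonal]
    refine ⟨fun z => ?_⟩
    obtain ⟨K, _, _, hK, g, hg⟩ := exists_geomPoint (p := p) (pullback.fst f f) z
    obtain ⟨a, ha : a ≫ πX = g ≫ pullback.fst f f⟩ :=
      (hX.2 (Spec (CommRingCat.of K)) hK).2 (g ≫ pullback.fst f f)
    obtain ⟨b, hb : b ≫ πX = g ≫ pullback.snd f f⟩ :=
      (hX.2 (Spec (CommRingCat.of K)) hK).2 (g ≫ pullback.snd f f)
    have he : a ≫ fP = b ≫ fP := (hY.2 (Spec (CommRingCat.of K)) hK).1 (by
      simp only [Category.assoc, w]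
      rw [← Category.assoc, ← Category.assoc, ha, hb]
      simp [pullback.condition])
    have h0 := (tfae_universallyInjective fP).out 0 1
    have hab : a = b := h0.1 hu K he
    subst hab
    refine ⟨(g ≫ pullback.fst f f) (IsLocalRing.closedPoint K), ?_⟩
    have hd : (g ≫ pullback.fst f f) ≫ pullback.diagonal f = g :=
      pullback.hom_ext (by simp) (by simp [← ha, hb])
    rw [← Scheme.Hom.comp_apply, hd, hg]

theorem isUnivHomeo_iff : FlatMor.IsUnivHomeo f ↔ FlatMor.IsUnivHomeo fP := by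
  rw [Groth.PropsBasic.UH.isUnivHomeo_iff, Groth.PropsBasic.UH.isUnivHomeo_iff,
    universallyClosed_iff hX hY w, universallyInjective_iff hX hY w, surjective_iff hX hY w]

theorem quasiCompact_iff : QuasiCompact f ↔ QuasiCompact fP := by
  have := isIntegralHom hX
  have := isIntegralHom hY
  have := surjective hX
  constructor <;> intro
  · have : QuasiCompact (fP ≫ πY) := w ▸ inferInstance
    exact QuasiCompact.of_comp fP πY
  · have hc : QuasiCompact (πX ≫ f) := w ▸ inferInstance
    refine ⟨fun V hV hVc => ?_⟩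
    have := (QuasiCompact.isCompact_preimage (f := πX ≫ f) V hV hVc).image πX.continuous
    have he : πX '' ((πX ≫ f) ⁻¹' V) = f ⁻¹' V := by
      have h1 : ((πX ≫ f) ⁻¹' V : Set XP) = πX ⁻¹' (f ⁻¹' V) := by ext; simp
      rw [h1, Set.image_preimage_eq _ πX.surjective]
    rwa [he] at this

theorem quasiSeparated_iff : QuasiSeparated f ↔ QuasiSeparated fP := by
  have := isIntegralHom hX
  have := isIntegralHom hY
  constructor <;> intro
  · have : QuasiSeparated (fP ≫ πY) := w ▸ inferInstance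
    exact QuasiSeparated.of_comp fP πY
  · have hc : QuasiSeparated (πX ≫ f) := w ▸ inferInstance
    rw [HasAffineProperty.iff_of_iSup_eq_top (P := @QuasiSeparated)
      (fun V : Y.affineOpens => V) (iSup_affineOpens_eq_top Y)]
    intro V
    have h1 : QuasiSeparatedSpace (↑((πX ≫ f) ⁻¹ᵁ V.1) : Scheme.{u}) :=
      (HasAffineProperty.iff_of_iSup_eq_top (P := @QuasiSeparated)
        (fun V : Y.affineOpens => V) (iSup_affineOpens_eq_top Y)).1 hc V
    have := isCharP_opens (p := p) (f ⁻¹ᵁ V.1)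
    have := isCharP_opens (p := p) (πX ⁻¹ᵁ f ⁻¹ᵁ V.1)
    have : QuasiSeparatedSpace ↥((πX ⁻¹ᵁ f ⁻¹ᵁ V.1 : XP.Opens) : Scheme.{u}) := h1
    exact (isHomeomorph (restrict hX (f ⁻¹ᵁ V.1))).homeomorph.symm.isOpenEmbedding.quasiSeparatedSpace

theorem isAffineHom_iff : IsAffineHom f ↔ IsAffineHom fP := by
  have := isAffineHom hX
  have := isAffineHom hY
  constructor <;> intro
  · have : IsAffineHom (fP ≫ πY) := w ▸ inferInstance
    exact IsAffineHom.of_comp fP πY
  · have hc : IsAffineHom (πX ≫ f) := w ▸ inferInstance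
    refine ⟨fun V hV => ?_⟩
    have : IsAffine (↑(πX ⁻¹ᵁ f ⁻¹ᵁ V) : Scheme.{u}) := hV.preimage (πX ≫ f)
    have := isCharP_opens (p := p) (f ⁻¹ᵁ V)
    have := isCharP_opens (p := p) (πX ⁻¹ᵁ f ⁻¹ᵁ V)
    exact isAffine_of_isAffine (restrict hX (f ⁻¹ᵁ V))

theorem isSeparated_iff' : IsSeparated f ↔ IsSeparated fP := by
  have := isIntegralHom hX
  have := isIntegralHom hY
  have := surjective hX
  constructor <;> intro
  · have : IsSeparated (fP ≫ πY) := w ▸ inferInstance
    exact IsSeparated.of_comp fP πY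
  · have hc : IsSeparated (πX ≫ f) := w ▸ inferInstance
    refine ⟨IsClosedImmersion.of_isPreimmersion _ ?_⟩
    let m := pullback.map (πX ≫ f) (πX ≫ f) f f πX πX (𝟙 Y) (by simp) (by simp)
    have hm : UniversallyClosed m :=
      MorphismProperty.pullbackMap (P := @UniversallyClosed) inferInstance inferInstance rfl rfl
    have h1 : πX ≫ pullback.diagonal f = pullback.diagonal (πX ≫ f) ≫ m := by
      apply pullback.hom_ext
      · simp only [Category.assoc, pullback.diagonal_fst, Category.comp_id, m, pullback.map]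
        erw [pullback.lift_fst, pullback.diagonal_fst_assoc]
      · simp only [Category.assoc, pullback.diagonal_snd, Category.comp_id, m, pullback.map]
        erw [pullback.lift_snd, pullback.diagonal_snd_assoc]
    have h2 : Set.range (pullback.diagonal f) = m '' Set.range (pullback.diagonal (πX ≫ f)) := by
      rw [← Set.range_comp]
      ext z
      constructor
      · rintro ⟨x, rfl⟩
        obtain ⟨x', rfl⟩ := πX.surjective x
        exact ⟨x', by rw [← Scheme.Hom.comp_apply, h1]; rfl⟩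
      · rintro ⟨x', rfl⟩
        exact ⟨πX x', by rw [← Scheme.Hom.comp_apply, h1]; rfl⟩
    rw [h2]
    exact m.isClosedMap _ (pullback.diagonal (πX ≫ f)).isClosedEmbedding.isClosed_range

theorem isOpenImmersion [IsOpenImmersion f] : IsOpenImmersion fP := by
  let U := f.opensRange
  have := isCharP_opens (p := p) U
  have := isCharP_opens (p := p) (πY ⁻¹ᵁ U)
  let i : X ⟶ (U : Scheme.{u}) := f.isoOpensRange.hom
  have hi : i ≫ U.ι = f := f.isoOpensRange_hom_ι
  have hXU : IsPerfection (πX ≫ i) p := by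
    refine ⟨hX.1, fun Z _ hZ => ?_⟩
    have : (fun g : Z ⟶ XP => g ≫ πX ≫ i) =
        (fun k : Z ⟶ X => k ≫ i) ∘ fun g : Z ⟶ XP => g ≫ πX := by funext g; simp
    rw [this]
    refine Function.Bijective.comp ⟨fun a b hab => (cancel_mono i).1 hab, fun b => ⟨b ≫ inv i, by simp⟩⟩
      (hX.2 Z hZ)
  obtain ⟨e, he⟩ := exists_iso hXU (restrict hY U)
  have : fP = e.hom ≫ (πY ⁻¹ᵁ U).ι := by
    refine (hY.2 XP hX.1).1 ?_
    change fP ≫ πY = (e.hom ≫ (πY ⁻¹ᵁ U).ι) ≫ πY
    rw [Category.assoc, ← morphismRestrict_ι, ← Category.assoc, he, Category.assoc, hi, w]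
  rw [this]
  infer_instance

theorem isClosedImmersion [IsClosedImmersion f] : IsClosedImmersion fP := by
  have : IsAffineHom fP := (isAffineHom_iff hX hY w).1 inferInstance
  rw [HasAffineProperty.iff_of_iSup_eq_top (P := @IsClosedImmersion)
    (fun V : Y.affineOpens => ⟨πY ⁻¹ᵁ V.1, (structure_open hY V.2).1⟩)
    (show ⨆ V : Y.affineOpens, πY ⁻¹ᵁ V.1 = ⊤ by
      rw [← Scheme.Hom.preimage_iSup, iSup_affineOpens_eq_top]; rfl)]
  intro V
  refine ⟨((structure_open hY V.2).1).preimage fP, ?_⟩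
  have key : ∀ W : YP.Opens, W = πY ⁻¹ᵁ V.1 → Function.Surjective (fP.app W) := by
    rintro W rfl s
    let i : πX ⁻¹ᵁ f ⁻¹ᵁ V.1 ⟶ fP ⁻¹ᵁ πY ⁻¹ᵁ V.1 := eqToHom (preimage_comm w V.1).symm
    obtain ⟨n, a, ha⟩ := (structure_open hX (V.2.preimage f)).2.1 (XP.presheaf.map i.op s)
    obtain ⟨b, rfl⟩ := (isClosedImmersion_iff_isAffineHom.1 (inferInstance : IsClosedImmersion f)).2 _ V.2 a
    obtain ⟨r, hr : r ^ p ^ n = πY.app V.1 b⟩ :=
      (haveI := hY.1; bijective_pow_pow (X := YP) (p := p) (πY ⁻¹ᵁ V.1) n).2 (πY.app V.1 b)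
    refine ⟨r, ?_⟩
    have := hX.1
    apply (bijective_pow_pow (X := XP) (p := p) (fP ⁻¹ᵁ πY ⁻¹ᵁ V.1) n).1
    change fP.app _ r ^ p ^ n = s ^ p ^ n
    rw [← map_pow, hr]
    apply (ConcreteCategory.bijective_of_isIso (XP.presheaf.map i.op)).1
    rw [map_pow, ← ha]
    have hc := Scheme.Hom.congr_app w V.1
    rw [Scheme.Hom.comp_app, Scheme.Hom.comp_app] at hc
    have hc' : (fP.app _).hom ((πY.app V.1).hom b) =
        (XP.presheaf.map _).hom ((πX.app _).hom ((f.app V.1).hom b)) := congrArg (fun t => t.hom b) hc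
    erw [hc']
    change (XP.presheaf.map _ ≫ XP.presheaf.map _).hom _ = _
    rw [← Functor.map_comp]
    simp [i]
  have h2 := key _ (Scheme.Opens.ι_image_top _)
  rw [morphismRestrict_appTop]
  refine Function.Surjective.of_comp (g := id) ?_
  intro y
  obtain ⟨t, ht⟩ := (ConcreteCategory.bijective_of_isIso (XP.presheaf.map (eqToHom _).op)).2 y
  obtain ⟨r, hr⟩ := h2 t
  exact ⟨r, (congrArg _ hr).trans ht⟩

theorem isImmersion [IsImmersion f] : IsImmersion fP := by
  let U := f.coborderRange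
  have := isCharP_opens (p := p) U
  have := isCharP_opens (p := p) (πY ⁻¹ᵁ U)
  have hr : Set.range fP ⊆ Set.range (πY ⁻¹ᵁ U).ι := by
    rintro _ ⟨x, rfl⟩
    rw [Scheme.Opens.range_ι]
    change πY (fP x) ∈ U
    rw [← Scheme.Hom.comp_apply, w, Scheme.Hom.comp_apply]
    exact subset_coborder ⟨πX x, rfl⟩
  let g := IsOpenImmersion.lift (πY ⁻¹ᵁ U).ι fP hr
  have hg : g ≫ (πY ⁻¹ᵁ U).ι = fP := IsOpenImmersion.lift_fac _ _ _
  have hw : g ≫ πY ∣_ U = πX ≫ f.liftCoborder := by
    rw [← cancel_mono U.ι, Category.assoc, Category.assoc, morphismRestrict_ι, reassoc_of% hg, w,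
      f.liftCoborder_ι]
  have : IsClosedImmersion g := isClosedImmersion hX (restrict hY U) hw
  rw [← hg]
  infer_instance

omit hX hY w in
/-- Flatness passes to perfections of rings. -/
theorem flat_of_flat {A B A' B' : Type u} [CommRing A] [CommRing B] [CommRing A'] [CommRing B']
    (φ : A →+* B) (α : A →+* A') (β : B →+* B') (g : A' →+* B') (hc : g.comp α = β.comp φ)
    (hA0 : (p : A') = 0) (hB0 : (p : B') = 0) (hA : ∀ n : ℕ, Function.Bijective fun a : A' => a ^ p ^ n)
    (hB : ∀ n : ℕ, Function.Bijective fun b : B' => b ^ p ^ n)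
    (hα : ∀ a : A', ∃ (n : ℕ) (a₀ : A), α a₀ = a ^ p ^ n)
    (hβ : ∀ b : B', ∃ (n : ℕ) (b₀ : B), β b₀ = b ^ p ^ n)
    (hker : ∀ b : B, β b = 0 → ∃ n : ℕ, b ^ p ^ n = 0) (hB1 : (p : B) = 0)
    (hφ : φ.Flat) : g.Flat := by
  algebraize [φ, g]
  refine Module.Flat.of_forall_isTrivialRelation fun {l a x} hax => ?_
  choose m a₀ ha₀ using fun i => hα (a i)
  choose n b₀ hb₀ using fun i => hβ (x i)
  let M : ℕ := (∑ i, m i) + ∑ i, n i
  have hmM : ∀ i, m i ≤ M := fun i =>
    (Finset.single_le_sum (fun j _ => Nat.zero_le (m j)) (Finset.mem_univ i)).trans (Nat.le_add_right _ _)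
  have hnM : ∀ i, n i ≤ M := fun i =>
    (Finset.single_le_sum (fun j _ => Nat.zero_le (n j)) (Finset.mem_univ i)).trans (Nat.le_add_left _ _)
  have hsum : ∀ (k : ℕ) {C : Type u} [CommRing C] (hC : (p : C) = 0) (ι : Finset (Fin l)) (z : Fin l → C),
      (∑ i ∈ ι, z i) ^ p ^ k = ∑ i ∈ ι, z i ^ p ^ k := by
    intro k C _ hC ι z
    induction ι using Finset.induction with
    | empty => simp [zero_pow (pow_ne_zero k (Fact.out : p.Prime).ne_zero)]
    | insert j t hj ih => rw [Finset.sum_insert hj, Finset.sum_insert hj, add_pow_char_pow' hC, ih]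
  -- the relation downstairs
  let z : B := ∑ i, φ (a₀ i ^ p ^ (M - m i)) * b₀ i ^ p ^ (M - n i)
  have hz : β z = 0 := by
    simp only [z, map_sum, map_mul, map_pow, ← RingHom.comp_apply β φ]
    simp only [← hc, RingHom.comp_apply, ha₀, hb₀, map_pow, ← pow_mul, ← pow_add,
      Nat.add_sub_cancel' (hmM _), Nat.add_sub_cancel' (hnM _), ← mul_pow]
    rw [← hsum M hB0 Finset.univ (fun i => g (a i) * x i)]
    simp only [Algebra.smul_def, RingHom.algebraMap_toAlgebra] at hax
    rw [hax, zero_pow (pow_ne_zero M (Fact.out : p.Prime).ne_zero)]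
  obtain ⟨e, he⟩ := hker z hz
  rw [hsum e hB1] at he
  let c : Fin l → A := fun i => (a₀ i ^ p ^ (M - m i)) ^ p ^ e
  let d : Fin l → B := fun i => (b₀ i ^ p ^ (M - n i)) ^ p ^ e
  obtain ⟨κ, C, y, hd, hC⟩ := Module.Flat.isTrivialRelation_of_sum_smul_eq_zero
    (R := A) (M := B) (f := c) (x := d) (by
      simpa [Algebra.smul_def, RingHom.algebraMap_toAlgebra, c, d, mul_pow, map_pow] using he)
  choose C' hC' using fun i j => (hA (M + e)).2 (α (C i j))
  choose y' hy' using fun j => (hB (M + e)).2 (β (y j))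
  refine ⟨κ, C', y', fun i => (hB (M + e)).1 ?_, fun j => (hA (M + e)).1 ?_⟩
  · change x i ^ p ^ (M + e) = (∑ j, C' i j • y' j) ^ p ^ (M + e)
    have h1 : x i ^ p ^ (M + e) = β (d i) := by
      simp only [d, map_pow, hb₀, ← pow_mul, ← pow_add]
      rw [show n i + (M - n i + e) = M + e by have := hnM i; omega]
    rw [h1, hd i, map_sum]
    have hs : ∀ (t : Finset (Fin κ)) (z : Fin κ → B'), (∑ j ∈ t, z j) ^ p ^ (M + e) = ∑ j ∈ t, z j ^ p ^ (M + e) := by
      intro t z
      classical
      induction t using Finset.induction with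
      | empty => simp [zero_pow (pow_ne_zero (M + e) (Fact.out : p.Prime).ne_zero)]
      | insert j t hj ih => rw [Finset.sum_insert hj, Finset.sum_insert hj, add_pow_char_pow' hB0, ih]
    rw [hs]
    refine Finset.sum_congr rfl fun j _ => ?_
    simp only [Algebra.smul_def, RingHom.algebraMap_toAlgebra, map_mul, mul_pow, ← map_pow]
    have h2 : C' i j ^ p ^ (M + e) = α (C i j) := hC' i j
    have h3 : y' j ^ p ^ (M + e) = β (y j) := hy' j
    rw [h2, h3, ← RingHom.comp_apply β φ, ← hc]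
    rfl
  · change (∑ i, a i * C' i j) ^ p ^ (M + e) = 0 ^ p ^ (M + e)
    rw [zero_pow (pow_ne_zero _ (Fact.out : p.Prime).ne_zero), hsum _ hA0]
    have h1 : ∀ i, (a i * C' i j) ^ p ^ (M + e) = α (c i * C i j) := fun i => by
      have h2 : C' i j ^ p ^ (M + e) = α (C i j) := hC' i j
      rw [mul_pow, h2, map_mul]
      congr 1
      simp only [c, map_pow, ha₀, ← pow_mul, ← pow_add]
      rw [show m i + (M - m i + e) = M + e by have := hmM i; omega]
    simp only [h1, ← map_sum]
    have h3 : ∑ i, c i * C i j = 0 := hC j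
    rw [h3, map_zero]

end Groth.Misc7.Perfection
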