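import Groth.Agent.HTopHyper.UnivHomeo
import Groth.Agent.PropsBasic.UnivHomeoTower
import Groth.Prelude.Def_W4c1perfhdescPerf

/-!
# Universal homeomorphisms of perfect schemes are isomorphisms
-/

set_option autoImplicit false

universe u

open CategoryTheory CategoryTheory.Limits AlgebraicGeometry

namespace Groth.Misc7.Perfection

/-- Ring level: an integral injective universally injective map of perfect rings is bijective. -/
theorem surjective_of_perfect {A B : Type u} [CommRing A] [CommRing B] (φ : A →+* B) (p : ℕ)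
    [Fact p.Prime] (hA0 : (p : A) = 0) (hA : Function.Bijective fun a : A => a ^ p)
    (hB : Function.Bijective fun b : B => b ^ p) (hinj : Function.Injective φ) (hint : φ.IsIntegral)
    (hui : Groth.PropsBasic.UH.UI φ) : Function.Surjective φ := by
  algebraize [φ]
  by_contra hns
  change ¬ Function.Surjective (algebraMap A B) at hns
  have key : ∀ b : B, b ^ p ∈ (algebraMap A B).range → b ∈ (algebraMap A B).range := by
    rintro b ⟨a, ha⟩
    obtain ⟨a', rfl⟩ := hA.2 a
    exact ⟨a', hB.1 (by simpa using ha)⟩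
  rcases Groth.PropsBasic.UH.exists_step (A := A) (B := B) hinj hns hint hui with
    ⟨b, hb, h2, h3⟩ | ⟨-, q, b, hq, hb, h1, h2⟩
  · refine hb (key b ?_)
    obtain ⟨k, hk⟩ : ∃ k, p = k + 2 := ⟨p - 2, by have := (Fact.out : p.Prime).two_le; omega⟩
    rw [hk]
    obtain ⟨i, j, hij⟩ : ∃ i j : ℕ, k + 2 = 2 * i + 3 * j := by
      rcases Nat.even_or_odd k with ⟨i, hi⟩ | ⟨i, hi⟩
      · exact ⟨i + 1, 0, by omega⟩
      · exact ⟨i, 1, by omega⟩
    rw [hij, pow_add, pow_mul, pow_mul]
    exact mul_mem (pow_mem h2 i) (pow_mem h3 j)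
  · by_cases hqp : q = p
    · exact hb (key b (hqp ▸ h2))
    · have hco : IsCoprime (q : A) (p : A) :=
        (Nat.coprime_primes hq Fact.out).2 hqp |>.cast
      obtain ⟨u, v, huv⟩ := hco
      rw [hA0, mul_zero, add_zero] at huv
      refine hb ?_
      have : b = algebraMap A B u * ((q : B) * b) := by
        rw [← mul_assoc, ← map_natCast (algebraMap A B), ← map_mul, huv, map_one, one_mul]
      rw [this]
      exact mul_mem ⟨u, rfl⟩ h1

theorem isIso_of_isUnivHomeo (p : ℕ) [Fact p.Prime] {X Y : Scheme.{u}} (f : X ⟶ Y)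
    (hX : PerfSch.IsPerfect p X) (hY : PerfSch.IsPerfect p Y) (hf : FlatMor.IsUnivHomeo f) :
    IsIso f := by
  have := Groth.HTopHyper.isIntegralHom_of_isUnivHomeo hf
  have hu := Groth.HTopHyper.universallyInjective_of_isUnivHomeo hf
  have hs := Groth.HTopHyper.surjective_of_isUnivHomeo hf
  rw [← MorphismProperty.isomorphisms.iff,
    IsZariskiLocalAtTarget.iff_of_iSup_eq_top (P := MorphismProperty.isomorphisms Scheme)
      (fun W : Y.affineOpens => (W : Y.Opens)) (iSup_affineOpens_eq_top Y)]
  rintro ⟨V, hV⟩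
  replace hV : IsAffineOpen V := hV
  rw [MorphismProperty.isomorphisms.iff, isIso_morphismRestrict_iff_isIso_app _ hV,
    ConcreteCategory.isIso_iff_bijective]
  have hU : IsAffineOpen (f ⁻¹ᵁ V) := hV.preimage f
  have hinj : Function.Injective (f.app V) := by
    rw [injective_iff_map_eq_zero]
    intro a ha
    have h1 : f ⁻¹ᵁ Y.basicOpen a = ⊥ := by
      rw [Scheme.preimage_basicOpen, ha, Scheme.basicOpen_zero]
    have h2 : Y.basicOpen a = ⊥ := by
      refine eq_bot_iff.2 fun y hy => ?_
      obtain ⟨x, rfl⟩ := hs.surj y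
      exact h1.le hy
    obtain ⟨n, hn⟩ := (Scheme.isNilpotent_iff_basicOpen_eq_bot_of_isCompact hV.isCompact a).2 h2
    have key : ∀ (m : ℕ) (b : Γ(Y, V)), b ^ p ^ m = 0 → b = 0 := by
      intro m
      induction m with
      | zero => intro b hb; simpa using hb
      | succ m ih =>
        intro b hb
        refine ih b ((hY V).2.1 ?_)
        simp only [← pow_mul, ← pow_succ, hb, zero_pow (Fact.out : p.Prime).ne_zero]
    exact key n a (pow_eq_zero_of_le (Nat.lt_pow_self (Fact.out : p.Prime).one_lt).le hn)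
  refine ⟨hinj, surjective_of_perfect (f.app V).hom p (hY V).1 (hY V).2 (hX _).2 hinj
    (IsIntegralHom.isIntegral_app f V hV) ?_⟩
  intro K _ g₁ g₂ e
  have hu' := (tfae_universallyInjective f).out 0 1
  have h1 := hu'.1 hu K (a₁ := Spec.map (CommRingCat.ofHom g₁) ≫ hU.fromSpec)
    (a₂ := Spec.map (CommRingCat.ofHom g₂) ≫ hU.fromSpec) (by
      simp only [Category.assoc, ← hV.SpecMap_appLE_fromSpec f hU le_rfl, ← Scheme.Hom.app_eq_appLE,
        ← Spec.map_comp_assoc]
      congr 2
      exact CommRingCat.hom_ext e)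
  rw [cancel_mono] at h1
  exact congrArg CommRingCat.Hom.hom (Spec.map_injective h1)

end Groth.Misc7.Perfection
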